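import Groth.Agent.EtSplit.Ring
import Groth.Agent.HenselLib.EtaleLift
import Groth.Agent.FEtLib.EqLocus

/-!
# Étale affine schemes over closed subschemes of absolutely flat-split normal schemes
-/

set_option autoImplicit false
set_option linter.all false
set_option backward.isDefEq.respectTransparency false
set_option backward.isDefEq.respectTransparency.types false

universe u

open CategoryTheory CategoryTheory.Limits AlgebraicGeometry TopologicalSpace

namespace Groth.Agent.EtSplit

theorem isIntegrallyClosed_global {X : Scheme.{u}} [IsAffine X] [IsIntegral X]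
    (hN : ∀ x : X, IsIntegrallyClosed (X.presheaf.stalk x)) : IsIntegrallyClosed Γ(X, ⊤) := by
  have hX := isAffineOpen_top X
  refine IsIntegrallyClosed.of_localization_maximal fun P _ hP => ?_
  let y : X := hX.fromSpec ⟨P, hP.isPrime⟩
  have hy : y ∈ (⊤ : X.Opens) := trivial
  letI := TopCat.Presheaf.algebra_section_stalk X.presheaf (⟨y, hy⟩ : (⊤ : X.Opens))
  haveI := hX.isLocalization_stalk' ⟨P, hP.isPrime⟩ hy
  haveI := hN y
  exact IsIntegrallyClosed.of_equiv
    (IsLocalization.algEquiv P.primeCompl (X.presheaf.stalk y) (Localization.AtPrime P)).toRingEquiv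

/-- An affine etale scheme over a closed subscheme is a finite disjoint union of opens mapping injectively. -/
theorem exists_split {V Z X : Scheme.{u}} [IsAffine X] [IsIntegral X]
    (hN : ∀ x : X, IsIntegrallyClosed (X.presheaf.stalk x)) [IsSepClosed X.functionField]
    (i : Z ⟶ X) [IsClosedImmersion i] (φ : V ⟶ Z) [AlgebraicGeometry.Etale φ] [IsAffine V] :
    ∃ (ι : Type u) (_ : Finite ι) (U : ι → V.Opens), (∀ k, IsOpenImmersion ((U k).ι ≫ φ)) ∧
      Pairwise (Function.onFun Disjoint U) ∧ ⨆ k, U k = ⊤ ∧ ∀ k, IsClosed (U k : Set V) := by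
  obtain ⟨hZ, hsurj⟩ := IsClosedImmersion.isAffine_surjective_of_isAffine i
  haveI := hZ
  let A := Γ(X, ⊤)
  let R := Γ(Z, ⊤)
  let C := Γ(V, ⊤)
  haveI : IsIntegrallyClosed A := isIntegrallyClosed_global hN
  haveI : IsDomain A := inferInstance
  let K := X.functionField
  haveI : Nonempty (⊤ : X.Opens) := ⟨⟨genericPoint X, trivial⟩⟩
  haveI : IsFractionRing A K := functionField_isFractionRing_of_isAffineOpen X ⊤ (isAffineOpen_top X)
  let q : A →+* R := i.appTop.hom
  let I : Ideal A := RingHom.ker q
  let eR : A ⧸ I ≃+* R := RingHom.quotientKerEquivOfSurjective hsurj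
  letI : Algebra (A ⧸ I) C := (φ.appTop.hom.comp eR.toRingHom).toAlgebra
  haveI : Algebra.Etale (A ⧸ I) C := by
    have h1 : φ.appTop.hom.Etale := HasRingHomProperty.appTop @AlgebraicGeometry.Etale φ inferInstance
    exact RingHom.Etale.stableUnderComposition _ _ (RingHom.Etale.of_bijective eR.bijective) h1
  obtain ⟨B, _, _, _, θ, hθ, -, hθA⟩ := HenselLib.exists_etale_lift A I C
  haveI := finite_points (A := A) K (B := B)
  let j : V ⟶ Spec (CommRingCat.of B) := V.isoSpec.hom ≫ Spec.map (CommRingCat.ofHom θ)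
  let U : (B →ₐ[A] K) → V.Opens := fun σ =>
    ⟨j.base ⁻¹' piece K σ, (isClopen_piece K σ).2.preimage j.continuous⟩
  refine ⟨B →ₐ[A] K, inferInstance, U, fun σ => ?_, fun σ τ hne => ?_, ?_,
    fun σ => (isClopen_piece K σ).1.preimage j.continuous⟩
  · haveI : UniversallyInjective ((U σ).ι ≫ φ) := by
      refine ((tfae_universallyInjective ((U σ).ι ≫ φ)).out 0 1).2 ?_
      intro M instM g₁ g₂ hg
      letI : Field M := instM
      let h : (Spec (CommRingCat.of M) ⟶ (U σ : Scheme.{u})) → (C ⟶ CommRingCat.of M) := fun g =>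
        Spec.preimage (g ≫ (U σ).ι ≫ V.isoSpec.hom)
      have hmap : ∀ g, Spec.map (h g) = g ≫ (U σ).ι ≫ V.isoSpec.hom := fun g => Spec.map_preimage _
      have hker : ∀ g, RingHom.ker σ ≤ RingHom.ker ((h g).hom.comp θ) := fun g => by
        let pt : Spec (CommRingCat.of M) := (⟨⊥, Ideal.isPrime_bot⟩ : PrimeSpectrum M)
        have hm : j ((U σ).ι (g pt)) ∈ piece K σ := (g pt).2
        have he : j ((U σ).ι (g pt)) = Spec.map (CommRingCat.ofHom θ) (Spec.map (h g) pt) := by
          rw [hmap g]; rfl
        rw [he] at hm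
        intro x hx
        exact (PrimeSpectrum.mem_zeroLocus _ _).1 hm hx
      have hA : ((h g₁).hom.comp θ).comp (algebraMap A B) = ((h g₂).hom.comp θ).comp (algebraMap A B) := by
        have h1 : φ.appTop ≫ h g₁ = φ.appTop ≫ h g₂ := by
          apply Spec.map_injective
          rw [Spec.map_comp, Spec.map_comp, hmap, hmap]
          have e : V.isoSpec.hom ≫ Spec.map φ.appTop = φ ≫ Z.isoSpec.hom := (Scheme.isoSpec_hom_naturality φ)
          simp only [Category.assoc, e]
          simpa using congrArg (· ≫ Z.isoSpec.hom) hg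
        refine RingHom.ext fun a => ?_
        have hθ' : θ (algebraMap A B a) = φ.appTop.hom (q a) := hθA a
        show (h g₁).hom (θ (algebraMap A B a)) = (h g₂).hom (θ (algebraMap A B a))
        rw [hθ']
        exact ConcreteCategory.congr_hom h1 (q a)
      have hB := hom_ext_of_point K ((h g₁).hom.comp θ) ((h g₂).hom.comp θ) hA σ (hker g₁) (hker g₂)
      have hh : h g₁ = h g₂ := CommRingCat.hom_ext (RingHom.ext fun c => by
        obtain ⟨b, rfl⟩ := hθ c
        exact RingHom.congr_fun hB b)
      rw [← cancel_mono ((U σ).ι ≫ V.isoSpec.hom), ← hmap, ← hmap, hh]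
    exact FEtLib.isOpenImmersion_of_etale_universallyInjective _
  · rw [Function.onFun, disjoint_iff, eq_bot_iff]
    rintro v ⟨h1, h2⟩
    exact (hne ((existsUnique_piece (A := A) K (j v)).unique h1 h2)).elim
  · rw [eq_top_iff]
    intro v _
    obtain ⟨σ, hσ, -⟩ := existsUnique_piece (A := A) K (j v)
    exact Opens.mem_iSup.2 ⟨σ, hσ⟩

end Groth.Agent.EtSplit
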