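import Groth.Agent.HenselLib.WEtFibre
import Groth.Agent.HenselLib.WEtField
import Groth.Agent.HenselLib.NormalHens
import Groth.Agent.HenselLib.WEtNoeth
import Mathlib.FieldTheory.IsSepClosed
import Mathlib.RingTheory.Etale.Field
import Mathlib.RingTheory.Spectrum.Prime.Topology

/-!
# Étale algebras over normal domains with separably closed fraction field
-/

set_option autoImplicit false
set_option linter.all false

universe u

open TensorProduct

namespace Groth.Agent.EtSplit

variable {A : Type u} [CommRing A] [IsDomain A] [IsIntegrallyClosed A]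
  (K : Type u) [Field K] [Algebra A K] [IsFractionRing A K] [IsSepClosed K]
  {B : Type u} [CommRing B] [Algebra A B] [Algebra.Etale A B]

theorem finite_points : Finite (B →ₐ[A] K) := by
  haveI : Module.Finite K (K ⊗[A] B) := by
    obtain ⟨ι, _, F, _, _, e, he⟩ := (Algebra.Etale.iff_exists_algEquiv_prod (K := K) (A := K ⊗[A] B)).mp inferInstance
    haveI : ∀ i, Module.Finite K (F i) := fun i => (he i).1
    exact Module.Finite.equiv e.symm.toLinearEquiv
  refine Finite.of_injective (fun σ : B →ₐ[A] K =>
    (Algebra.TensorProduct.lift (Algebra.ofId K K) σ fun _ _ => Commute.all _ _ : K ⊗[A] B →ₐ[K] K)) ?_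
  intro σ τ h
  refine AlgHom.ext fun b => ?_
  have := AlgHom.congr_fun h (1 ⊗ₜ b)
  simpa using this

/-- Every prime lies on exactly one point with values in `K`; near it the algebra is the base. -/
theorem exists_point (q : Ideal B) [q.IsPrime] :
    ∃ σ : B →ₐ[A] K, RingHom.ker σ ≤ q ∧ (∀ τ : B →ₐ[A] K, RingHom.ker τ ≤ q → τ = σ) ∧
      ∀ x : B, ∃ s c : A, s ∉ q.comap (algebraMap A B) ∧ σ (algebraMap A B s * x - algebraMap A B c) = 0 := by
  let Bq := Localization.AtPrime q
  haveI : Algebra.WeaklyEtale B Bq := HenselLib.WEtNoeth.weaklyEtale_of_isLocalization q.primeCompl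
  haveI : Algebra.WeaklyEtale A Bq := Algebra.WeaklyEtale.trans A B _
  haveI : IsDomain Bq := (HenselLib.normalDomain_of_weaklyEtale A Bq).1
  haveI : Module.Flat A Bq := Algebra.WeaklyEtale.flat
  let L := FractionRing Bq
  have hAinj : Function.Injective (algebraMap A Bq) := fun a b h => by
    by_contra hne
    have hr : IsRegular (a - b) := IsRegular.of_ne_zero (sub_ne_zero.2 hne)
    have h1 : Function.Injective (fun y : Bq => (a - b) • y) :=
      Module.Flat.isSMulRegular_of_isRegular hr
    have : (1 : Bq) = 0 := h1 (by simp [Algebra.smul_def, h])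
    exact one_ne_zero this
  have hAL : Function.Injective (algebraMap A L) := by
    rw [IsScalarTower.algebraMap_eq A Bq L]; exact (IsFractionRing.injective Bq L).comp hAinj
  letI : Algebra K L := (IsFractionRing.lift hAL).toAlgebra
  haveI : IsScalarTower A K L := .of_algebraMap_eq fun a => (IsFractionRing.lift_algebraMap hAL a).symm
  let Φ : K ⊗[A] B →ₐ[K] L := Algebra.TensorProduct.lift (Algebra.ofId K L)
    (IsScalarTower.toAlgHom A B L) fun _ _ => Commute.all _ _
  let F := Φ.range
  haveI : Algebra.WeaklyEtale K (K ⊗[A] B) := inferInstance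
  haveI hF : Algebra.WeaklyEtale K F := HenselLib.WEt.weaklyEtale_range Φ
  haveI : Algebra.IsIntegral K F := HenselLib.WEt.isIntegral_of_weaklyEtale
  letI : Field F := (isField_of_isIntegral_of_isField' (R := K) (Field.toIsField K)).toField
  haveI : Algebra.IsSeparable K F := HenselLib.WEt.isSeparable_field (K := K) F
  have hsurj : Function.Surjective (algebraMap K F) := IsSepClosed.algebraMap_surjective K F
  have hb : ∀ b : B, ∃ k : K, algebraMap K L k = algebraMap B L b := fun b => by
    obtain ⟨k, hk⟩ := hsurj ⟨Φ (1 ⊗ₜ b), ⟨_, rfl⟩⟩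
    refine ⟨k, ?_⟩
    have := congrArg Subtype.val hk
    simpa [Φ] using this
  choose k hk using hb
  let σ : B →ₐ[A] K :=
    { toFun := k
      map_one' := (algebraMap K L).injective (by rw [hk, map_one, map_one])
      map_mul' := fun a b => (algebraMap K L).injective (by rw [map_mul, hk, hk, hk, map_mul])
      map_zero' := (algebraMap K L).injective (by rw [hk, map_zero, map_zero])
      map_add' := fun a b => (algebraMap K L).injective (by rw [map_add, hk, hk, hk, map_add])
      commutes' := fun a => (algebraMap K L).injective (by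
        rw [hk, ← IsScalarTower.algebraMap_apply A K L, ← IsScalarTower.algebraMap_apply A B L]) }
  have hσ : ∀ b, algebraMap K L (σ b) = algebraMap B L b := hk
  have hker : ∀ b, σ b = 0 ↔ algebraMap B Bq b = 0 := fun b => by
    rw [← map_eq_zero_iff _ (algebraMap K L).injective, hσ, IsScalarTower.algebraMap_apply B Bq L,
      map_eq_zero_iff _ (IsFractionRing.injective Bq L)]
  have hkerq : ∀ (P : Ideal B), P.IsPrime → P ≤ q → RingHom.ker σ ≤ P := fun P hP hPq b hb => by
    obtain ⟨⟨s, hs⟩, hsb⟩ := (IsLocalization.map_eq_zero_iff q.primeCompl Bq b).1 ((hker b).1 hb)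
    exact (hP.mem_or_mem (show s * b ∈ P from hsb ▸ P.zero_mem)).resolve_left fun h => hs (hPq h)
  have hle : RingHom.ker σ ≤ q := hkerq q inferInstance le_rfl
  refine ⟨σ, hle, fun τ hτ => ?_, fun x => ?_⟩
  · haveI : (RingHom.ker τ).IsPrime := RingHom.ker_isPrime _
    haveI : (RingHom.ker σ).IsPrime := RingHom.ker_isPrime _
    have hcomap : ∀ ρ : B →ₐ[A] K, (RingHom.ker ρ).comap (algebraMap A B) = ⊥ := fun ρ => by
      refine (Submodule.eq_bot_iff _).2 fun a ha => ?_
      rw [Ideal.mem_comap, RingHom.mem_ker, AlgHom.commutes] at ha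
      exact IsFractionRing.injective A K (ha.trans (map_zero _).symm)
    have he : RingHom.ker σ = RingHom.ker τ :=
      HenselLib.WEt.eq_of_le_of_comap_eq (hkerq _ inferInstance hτ) ((hcomap σ).trans (hcomap τ).symm)
    refine AlgHom.ext fun b => ?_
    obtain ⟨a, s, hs, hab⟩ := IsFractionRing.div_surjective (A := A) (σ b)
    have hs0 : algebraMap A K s ≠ 0 := fun h => nonZeroDivisors.ne_zero hs (IsFractionRing.injective A K (h.trans (map_zero _).symm))
    have hmem : algebraMap A B s * b - algebraMap A B a ∈ RingHom.ker σ := by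
      rw [RingHom.mem_ker, map_sub, map_mul, AlgHom.commutes, AlgHom.commutes, ← hab, mul_div_cancel₀ _ hs0, sub_self]
    rw [he, RingHom.mem_ker, map_sub, map_mul, AlgHom.commutes, AlgHom.commutes, sub_eq_zero] at hmem
    rw [← hab, eq_div_iff hs0, mul_comm, hmem]
  · obtain ⟨a, b, hb, hab⟩ := IsFractionRing.div_surjective (A := A) (σ x)
    have hb0 : algebraMap A K b ≠ 0 := fun h => nonZeroDivisors.ne_zero hb (IsFractionRing.injective A K (h.trans (map_zero _).symm))
    let p := q.comap (algebraMap A B)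
    have h0 : algebraMap A Bq b * algebraMap B Bq x = algebraMap A Bq a := by
      refine IsFractionRing.injective Bq L ?_
      rw [map_mul, ← IsScalarTower.algebraMap_apply, ← IsScalarTower.algebraMap_apply, ← IsScalarTower.algebraMap_apply,
        ← hσ, IsScalarTower.algebraMap_apply A K L, IsScalarTower.algebraMap_apply A K L a, ← map_mul, ← hab, mul_div_cancel₀ _ hb0]
    let Ap := Localization.AtPrime p
    letI : Algebra Ap Bq := (IsLocalization.lift (M := p.primeCompl) (S := Ap) (g := algebraMap A Bq) fun y =>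
      (IsLocalization.map_units Bq (⟨algebraMap A B y, y.2⟩ : q.primeCompl) : IsUnit (algebraMap B Bq (algebraMap A B y)))).toAlgebra
    haveI : IsScalarTower A Ap Bq := .of_algebraMap_eq fun a => (IsLocalization.lift_eq _ a).symm
    haveI : Module.Flat Ap Bq := (Module.flat_iff_of_isLocalization (R := A) Ap p.primeCompl Bq).2 inferInstance
    haveI : IsLocalHom (algebraMap Ap Bq) := by
      refine ⟨fun z hz => ?_⟩
      obtain ⟨⟨a', s'⟩, h'⟩ := IsLocalization.surj p.primeCompl z
      by_contra hn
      have ha' : a' ∈ p := by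
        by_contra hc
        refine hn (isUnit_of_mul_isUnit_left (y := algebraMap A Ap s') ?_)
        rw [h']; exact IsLocalization.map_units Ap (⟨a', hc⟩ : p.primeCompl)
      have h2 : IsUnit (algebraMap Ap Bq (algebraMap A Ap a')) := by
        rw [← h', map_mul]; exact hz.mul ((IsLocalization.map_units Ap s').map _)
      rw [← IsScalarTower.algebraMap_apply, IsScalarTower.algebraMap_apply A B Bq] at h2
      exact (IsLocalization.AtPrime.isUnit_to_map_iff Bq q (algebraMap A B a')).1 h2 ha'
    haveI := Module.FaithfullyFlat.of_flat_of_isLocalHom (A := Ap) (B := Bq)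
    have h1 : algebraMap A Ap a ∈ Ideal.span {algebraMap A Ap b} := by
      rw [← Ideal.comap_map_eq_self_of_faithfullyFlat (B := Bq) (Ideal.span {algebraMap A Ap b}), Ideal.mem_comap,
        Ideal.map_span, Set.image_singleton, ← IsScalarTower.algebraMap_apply, ← IsScalarTower.algebraMap_apply, ← h0]
      exact Ideal.mem_span_singleton'.2 ⟨_, mul_comm _ _⟩
    obtain ⟨z, hz⟩ := Ideal.mem_span_singleton'.1 h1
    obtain ⟨⟨c, ⟨s, hs⟩⟩, hc⟩ := IsLocalization.surj p.primeCompl z
    refine ⟨s, c, hs, ?_⟩
    have h3 : algebraMap A Ap (c * b) = algebraMap A Ap (a * s) := by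
      rw [map_mul, map_mul, ← hc, ← hz]; ring
    have h4 : c * b = a * s := IsLocalization.injective Ap (p.primeCompl_le_nonZeroDivisors) h3
    rw [map_sub, map_mul, AlgHom.commutes, AlgHom.commutes, ← hab, sub_eq_zero, mul_div, div_eq_iff hb0,
      ← map_mul, ← map_mul, h4, mul_comm]

/-- Two field valued points agreeing on `A` and lying on the same point with values in `K` agree. -/
theorem hom_ext_of_point {M : Type u} [Field M] (h₁ h₂ : B →+* M)
    (he : h₁.comp (algebraMap A B) = h₂.comp (algebraMap A B)) (σ : B →ₐ[A] K)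
    (hσ₁ : RingHom.ker σ ≤ RingHom.ker h₁) (hσ₂ : RingHom.ker σ ≤ RingHom.ker h₂) : h₁ = h₂ := by
  haveI : (RingHom.ker h₁).IsPrime := RingHom.ker_isPrime _
  obtain ⟨σ', -, huniq, hq⟩ := exists_point (A := A) K (RingHom.ker h₁)
  obtain rfl := huniq σ hσ₁
  refine RingHom.ext fun x => ?_
  obtain ⟨s, c, hs, hsc⟩ := hq x
  have hA : ∀ a, h₁ (algebraMap A B a) = h₂ (algebraMap A B a) := fun a => RingHom.congr_fun he a
  have e₁ := RingHom.mem_ker.1 (hσ₁ (RingHom.mem_ker.2 hsc))
  have e₂ := RingHom.mem_ker.1 (hσ₂ (RingHom.mem_ker.2 hsc))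
  rw [map_sub, map_mul, sub_eq_zero] at e₁ e₂
  rw [← hA, ← hA] at e₂
  exact mul_left_cancel₀ (fun h => hs (RingHom.mem_ker.2 h)) (e₁.trans e₂.symm)

/-- The open piece of a point. -/
def piece (σ : B →ₐ[A] K) : Set (PrimeSpectrum B) := PrimeSpectrum.zeroLocus (RingHom.ker σ : Set B)

theorem isClopen_piece (σ : B →ₐ[A] K) : IsClopen (piece K σ) := by
  haveI := finite_points (A := A) K (B := B)
  refine ⟨PrimeSpectrum.isClosed_zeroLocus _, ?_⟩
  have : piece K σ = (⋃ τ : {τ : B →ₐ[A] K // τ ≠ σ}, piece K τ.1)ᶜ := by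
    ext q
    obtain ⟨σ', hσ', huniq, -⟩ := exists_point (A := A) K q.asIdeal
    simp only [Set.mem_compl_iff, Set.mem_iUnion, not_exists, piece, PrimeSpectrum.mem_zeroLocus, SetLike.coe_subset_coe]
    refine ⟨fun h τ hτ => τ.2 ((huniq _ hτ).trans (huniq _ h).symm), fun h => ?_⟩
    by_contra hc
    exact h ⟨σ', fun e => hc (e ▸ hσ')⟩ hσ'
  rw [this, isOpen_compl_iff]
  exact isClosed_iUnion_of_finite fun τ => PrimeSpectrum.isClosed_zeroLocus _

theorem existsUnique_piece (q : PrimeSpectrum B) : ∃! σ : B →ₐ[A] K, q ∈ piece K σ := by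
  obtain ⟨σ, hσ, huniq, -⟩ := exists_point (A := A) K q.asIdeal
  refine ⟨σ, ?_, fun τ hτ => huniq τ ?_⟩
  · simpa [piece] using hσ
  · simpa [piece] using hτ

end Groth.Agent.EtSplit
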